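import Groth.Agent.FppfSource.Smooth
import Groth.Agent.AlgSpLib.SourceDesc
import Groth.Agent.AlgSpLib.CovLocal

/-!
# Descent of properties of morphisms along fppf surjections of the source
-/

universe u

open CategoryTheory CategoryTheory.Limits AlgebraicGeometry

namespace Groth.Agent.FppfSource

set_option backward.isDefEq.respectTransparency.types false in
/-- reduce descent along etale surjections of the source to affine schemes -/
theorem descend_fppf_of_affine (P : MorphismProperty Scheme.{u}) [IsZariskiLocalAtTarget P]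
    [IsZariskiLocalAtSource P]
    (h : ∀ ⦃X Y Z : Scheme.{u}⦄ (f : X ⟶ Y) (g : Y ⟶ Z), IsAffine X → IsAffine Y → IsAffine Z →
      (@Flat ⊓ @LocallyOfFinitePresentation : MorphismProperty Scheme.{u}) f → Surjective f → P (f ≫ g) → P g)
    {X Y Z : Scheme.{u}} (f : X ⟶ Y) (g : Y ⟶ Z) (hf : (@Flat ⊓ @LocallyOfFinitePresentation : MorphismProperty Scheme.{u}) f) (hs : Surjective f)
    (hfg : P (f ≫ g)) : P g := by
  wlog hZ : IsAffine Z generalizing X Y Z
  · rw [IsZariskiLocalAtTarget.iff_of_openCover (P := P) Z.affineCover]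
    intro i
    refine this (pullback.snd f (pullback.fst g (Z.affineCover.f i))) _
      (MorphismProperty.pullback_snd (P := (@Flat ⊓ @LocallyOfFinitePresentation : MorphismProperty Scheme.{u})) _ _ hf) (MorphismProperty.pullback_snd (P := @Surjective) _ _ hs)
      ?_ inferInstance
    exact IsZariskiLocalAtTarget.of_isPullback
      (((IsPullback.of_hasPullback f (pullback.fst g (Z.affineCover.f i))).paste_vert
        (IsPullback.of_hasPullback g (Z.affineCover.f i)))) hfg
  wlog hY : IsAffine Y generalizing X Y Z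
  · rw [IsZariskiLocalAtSource.iff_of_openCover (P := P) Y.affineCover]
    intro i
    refine this (pullback.snd f (Y.affineCover.f i)) _ (MorphismProperty.pullback_snd (P := (@Flat ⊓ @LocallyOfFinitePresentation : MorphismProperty Scheme.{u})) _ _ hf)
      (MorphismProperty.pullback_snd (P := @Surjective) _ _ hs) ?_ hZ inferInstance
    rw [← Category.assoc, ← pullback.condition, Category.assoc]
    exact IsZariskiLocalAtSource.comp hfg _
  obtain ⟨hfl, hfp⟩ := hf
  -- finitely many affine opens of `X` cover `Y`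
  let U : X.affineCover.I₀ → Set Y := fun i => f '' Set.range (X.affineCover.f i)
  obtain ⟨t, ht⟩ := isCompact_univ.elim_finite_subcover U
    (fun i => f.isOpenMap _ (X.affineCover.f i).isOpenEmbedding.isOpen_range) (fun y _ => by
      obtain ⟨x, rfl⟩ := f.surjective y
      exact Set.mem_iUnion.mpr ⟨_, x, X.affineCover.covers x, rfl⟩)
  let W : t → Scheme.{u} := fun j => X.affineCover.X j.1
  let q : ∐ W ⟶ X := Sigma.desc fun j => X.affineCover.f j.1
  have hq : Etale q := by
    rw [IsZariskiLocalAtSource.iff_of_openCover (P := @Etale) (sigmaOpenCover _)]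
    intro j
    change Etale (Sigma.ι W j ≫ q)
    rw [Sigma.ι_desc]
    infer_instance
  have hqs : Surjective (q ≫ f) := ⟨fun y => by
    obtain ⟨i, hi⟩ := Set.mem_iUnion.mp (ht (Set.mem_univ y))
    obtain ⟨hit, x, ⟨w, rfl⟩, rfl⟩ := Set.mem_iUnion.mp hi
    refine ⟨Sigma.ι W ⟨i, hit⟩ w, ?_⟩
    rw [← Scheme.Hom.comp_apply, Sigma.ι_desc_assoc]
    rfl⟩
  refine h (q ≫ f) g inferInstance hY hZ ⟨inferInstance, inferInstance⟩ hqs ?_
  rw [Category.assoc, IsZariskiLocalAtSource.iff_of_openCover (P := P) (sigmaOpenCover _)]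
  intro j
  change P (Sigma.ι W j ≫ q ≫ f ≫ g)
  rw [Sigma.ι_desc_assoc]
  exact IsZariskiLocalAtSource.comp hfg _


/-- ring theoretic form -/
theorem descend_fppf_ringHom (P : MorphismProperty Scheme.{u})
    {Q : ∀ {R S : Type u} [CommRing R] [CommRing S], (R →+* S) → Prop} [HasRingHomProperty P Q]
    (h : ∀ {A B C : Type u} [CommRing A] [CommRing B] [CommRing C] [Algebra A B] [Algebra B C]
      [Algebra A C] [IsScalarTower A B C] [Algebra.FinitePresentation B C] [Module.FaithfullyFlat B C],
      Q (algebraMap A C) → Q (algebraMap A B))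
    {X Y Z : Scheme.{u}} (f : X ⟶ Y) (g : Y ⟶ Z) [Flat f] [LocallyOfFinitePresentation f] [Surjective f]
    (hfg : P (f ≫ g)) : P g := by
  refine descend_fppf_of_affine P (fun X Y Z f g _ _ _ hf hs hfg => ?_) f g ⟨‹_›, ‹_›⟩ ‹_› hfg
  rw [HasRingHomProperty.iff_of_isAffine (P := P)] at hfg ⊢
  obtain ⟨hfl, hfp⟩ := hf
  have hff : f.appTop.hom.FaithfullyFlat :=
    (Flat.flat_and_surjective_iff_faithfullyFlat_of_isAffine f).mp ⟨hfl, hs⟩
  rw [HasRingHomProperty.iff_of_isAffine (P := @LocallyOfFinitePresentation)] at hfp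
  algebraize [g.appTop.hom, f.appTop.hom, (f.appTop.hom.comp g.appTop.hom)]
  exact h (B := Γ(Y, ⊤)) (C := Γ(X, ⊤)) hfg

theorem lft {X Y Z : Scheme.{u}} (f : X ⟶ Y) (g : Y ⟶ Z) [Flat f] [LocallyOfFinitePresentation f] [Surjective f]
    [LocallyOfFiniteType (f ≫ g)] : LocallyOfFiniteType g :=
  descend_fppf_ringHom @LocallyOfFiniteType (fun {A B C} _ _ _ _ _ _ _ _ _ h => by
    rw [RingHom.finiteType_algebraMap] at h ⊢
    exact finiteType_of_fppf (C := C)) f g ‹_›

theorem lfp {X Y Z : Scheme.{u}} (f : X ⟶ Y) (g : Y ⟶ Z) [Flat f] [LocallyOfFinitePresentation f] [Surjective f]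
    [LocallyOfFinitePresentation (f ≫ g)] : LocallyOfFinitePresentation g :=
  descend_fppf_ringHom @LocallyOfFinitePresentation (fun {A B C} _ _ _ _ _ _ _ _ _ h => by
    rw [RingHom.finitePresentation_algebraMap] at h ⊢
    exact finitePresentation_of_fppf (C := C)) f g ‹_›

theorem smooth {X Y Z : Scheme.{u}} (f : X ⟶ Y) (g : Y ⟶ Z) [Flat f] [LocallyOfFinitePresentation f] [Surjective f]
    [Smooth (f ≫ g)] : Smooth g :=
  descend_fppf_ringHom @Smooth (fun {A B C} _ _ _ _ _ _ _ _ _ h => by
    rw [RingHom.smooth_algebraMap] at h ⊢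
    exact smooth_of_fppf A B C) f g ‹_›

theorem etale {X Y Z : Scheme.{u}} (f : X ⟶ Y) (g : Y ⟶ Z) [Flat f] [LocallyOfFinitePresentation f] [Surjective f]
    [Etale (f ≫ g)] : Etale g :=
  descend_fppf_ringHom @Etale (fun {A B C} _ _ _ _ _ _ _ _ _ h => by
    rw [RingHom.etale_algebraMap] at h ⊢
    exact etale_of_fppf A B C) f g ‹_›

theorem isLocalAtSource_fppf_lft : MorphismProperty.IsLocalAtSource (@LocallyOfFiniteType : MorphismProperty Scheme.{u})
    Scheme.fppfPrecoverage :=
  AlgSpLib.isLocalAtSource_precoverage (R := (@Flat ⊓ @LocallyOfFinitePresentation : MorphismProperty Scheme.{u}))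
    (fun _ _ _ f g hf hg => by obtain ⟨_, _⟩ := hf; have := hg; infer_instance)
    (fun _ _ _ f g hf hs h => by obtain ⟨_, _⟩ := hf; exact @lft _ _ _ f g _ _ hs h) _ le_rfl

theorem isLocalAtSource_fppf_lfp : MorphismProperty.IsLocalAtSource (@LocallyOfFinitePresentation : MorphismProperty Scheme.{u})
    Scheme.fppfPrecoverage :=
  AlgSpLib.isLocalAtSource_precoverage (R := (@Flat ⊓ @LocallyOfFinitePresentation : MorphismProperty Scheme.{u}))
    (fun _ _ _ f g hf hg => by obtain ⟨_, _⟩ := hf; have := hg; infer_instance)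
    (fun _ _ _ f g hf hs h => by obtain ⟨_, _⟩ := hf; exact @lfp _ _ _ f g _ _ hs h) _ le_rfl

theorem isLocalAtSource_smooth_smooth : MorphismProperty.IsLocalAtSource (@Smooth : MorphismProperty Scheme.{u})
    (Scheme.precoverage @Smooth) :=
  AlgSpLib.isLocalAtSource_precoverage (R := (@Smooth : MorphismProperty Scheme.{u}))
    (fun _ _ _ f g hf hg => by have := hf; have := hg; infer_instance)
    (fun _ _ _ f g hf hs h => by have := hf; exact @smooth _ _ _ f g inferInstance inferInstance hs h) _ le_rfl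

end Groth.Agent.FppfSource
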