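import Groth.Agent.FppfSource.Ring
import Groth.Agent.CotT.Smooth
import Groth.Agent.SerreReg.Descent
import Groth.Agent.SmLocalST.EtReg
import Mathlib.RingTheory.Smooth.Fiber
import Mathlib.RingTheory.Etale.Descent
import Mathlib.RingTheory.Jacobson.Ring
import Mathlib.FieldTheory.Perfect
import Mathlib.FieldTheory.IsAlgClosed.AlgebraicClosure
import Mathlib.RingTheory.RingHom.Smooth

/-!
# Smooth and etale descend along fppf algebras
-/

universe u

open TensorProduct

namespace Groth.Agent.FppfSource

theorem smooth_of_algClosed (K : Type u) [Field K] [IsAlgClosed K] (B C : Type u) [CommRing B] [CommRing C]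
    [Algebra K B] [Algebra B C] [Algebra K C] [IsScalarTower K B C] [Algebra.FiniteType K B]
    [Module.FaithfullyFlat B C] [Algebra.Smooth K C] : Algebra.FormallySmooth K B := by
  have : IsNoetherianRing C := Algebra.FiniteType.isNoetherianRing K C
  have : IsRegularRing C := isRegularRing_iff.2 fun p _ => CotT.regular_of_formallySmooth (k := K) p
  have : IsRegularRing B := SerreReg.isRegularRing_of_faithfullyFlat B C
  exact CotT.formallySmooth_of_maximal (k := K) fun m _ => inferInstance

theorem unramified_of_algClosed (K : Type u) [Field K] [IsAlgClosed K] (B C : Type u) [CommRing B] [CommRing C]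
    [Algebra K B] [Algebra B C] [Algebra K C] [IsScalarTower K B C] [Algebra.FiniteType K B]
    [Module.FaithfullyFlat B C] [Algebra.Etale K C] : Algebra.FormallyUnramified K B := by
  have : IsNoetherianRing C := Algebra.FiniteType.isNoetherianRing K C
  have : IsRegularRing C := isRegularRing_iff.2 fun p _ => CotT.regular_of_formallySmooth (k := K) p
  have : IsRegularRing B := SerreReg.isRegularRing_of_faithfullyFlat B C
  have : IsArtinianRing C :=
    have : Module.Finite K C := Algebra.FormallyUnramified.finite_of_free K C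
    isArtinian_of_tower K inferInstance
  rw [Algebra.formallyUnramified_iff_forall]
  intro q
  let b := q.asIdeal
  obtain ⟨c, hc⟩ := PrimeSpectrum.comap_surjective_of_faithfullyFlat (A := B) (B := C) q
  have : c.asIdeal.LiesOver b := ⟨congrArg PrimeSpectrum.asIdeal hc.symm⟩
  let : Algebra (Localization.AtPrime b) (Localization.AtPrime c.asIdeal) :=
    Localization.AtPrime.algebraOfLiesOver b c.asIdeal
  have : IsLocalHom (algebraMap (Localization.AtPrime b) (Localization.AtPrime c.asIdeal)) :=
    Localization.isLocalHom_localRingHom _ _ _ (c.asIdeal.over_def b)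
  have hflat : Module.Flat (Localization.AtPrime b) (Localization.AtPrime c.asIdeal) := by
    have : Module.Flat B (Localization.AtPrime c.asIdeal) := Module.Flat.trans B C _
    exact (Module.flat_iff_of_isLocalization (Localization.AtPrime b) b.primeCompl _).2 this
  have hdim : ringKrullDim (Localization.AtPrime b) ≤ 0 :=
    (SmLocalST.ringKrullDim_le_of_flat_local _ (Localization.AtPrime c.asIdeal)).trans
      (by
        have : IsArtinianRing (Localization.AtPrime c.asIdeal) := inferInstance
        exact Ring.krullDimLE_iff.1 inferInstance)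
  have hmax : IsLocalRing.maximalIdeal (Localization.AtPrime b) = ⊥ := by
    have h := (inferInstance : IsRegularLocalRing (Localization.AtPrime b)).spanFinrank_maximalIdeal
    have h0 : (IsLocalRing.maximalIdeal (Localization.AtPrime b)).spanFinrank = 0 :=
      Nat.le_zero.1 (by exact_mod_cast h.trans_le hdim)
    exact (Submodule.spanFinrank_eq_zero_iff_eq_bot (IsNoetherian.noetherian _)).1 h0
  let p : Ideal K := ⊥
  have hp : p = (⊥ : Ideal K) := rfl
  have : b.LiesOver p := ⟨(Ideal.eq_bot_of_prime _).symm⟩
  let := Localization.AtPrime.algebraOfLiesOver p b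
  refine (Algebra.isUnramifiedAt_iff_map_eq K p b).2 ⟨?_, ?_⟩
  · have hbm : b.IsMaximal := by
      obtain ⟨m, hm, hle⟩ := Ideal.exists_le_maximal b q.isPrime.ne_top
      obtain ⟨c', hc'⟩ := PrimeSpectrum.comap_surjective_of_faithfullyFlat (A := B) (B := C) ⟨m, hm.isPrime⟩
      have : Algebra.HasGoingDown B C := inferInstance
      have : c'.asIdeal.LiesOver m := ⟨congrArg PrimeSpectrum.asIdeal hc'.symm⟩
      obtain ⟨P, hP, _, hPb⟩ := Ideal.exists_ideal_le_liesOver_of_le (p := b) (q := m) c'.asIdeal hle
      have : P = c'.asIdeal := (IsArtinianRing.isMaximal_of_isPrime P).eq_of_le c'.isPrime.ne_top hP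
      subst this
      rw [(c'.asIdeal.over_def b).trans (c'.asIdeal.over_def m).symm]
      exact hm
    have : Module.Finite K (B ⧸ b) :=
      have : IsField (B ⧸ b) := (Ideal.Quotient.maximal_ideal_iff_isField_quotient b).1 hbm
      let := Ideal.Quotient.field b
      finite_of_finite_type_of_isJacobsonRing K (B ⧸ b)
    let e : (B ⧸ b) ≃ₐ[K] b.ResidueField :=
      (AlgEquiv.ofBijective (IsScalarTower.toAlgHom B (B ⧸ b) b.ResidueField)
        (Ideal.bijective_algebraMap_quotient_residueField b)).restrictScalars K
    have : Module.Finite K b.ResidueField := Module.Finite.equiv e.toLinearEquiv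
    have : Algebra.IsAlgebraic K b.ResidueField := Algebra.IsAlgebraic.of_finite K _
    have hsur : Function.Surjective (algebraMap K p.ResidueField) :=
      (Ideal.bijective_algebraMap_quotient_residueField p).2.comp Ideal.Quotient.mk_surjective
    have : Algebra.IsSeparable K b.ResidueField := Algebra.IsAlgebraic.isSeparable_of_perfectField
    exact Algebra.isSeparable_tower_top_of_isSeparable K p.ResidueField b.ResidueField
  · rw [hmax, hp, Ideal.map_bot]

variable (A B C : Type u) [CommRing A] [CommRing B] [CommRing C] [Algebra A B] [Algebra B C]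
  [Algebra A C] [IsScalarTower A B C]

attribute [local instance] Algebra.TensorProduct.rightAlgebra in
theorem exists_geometric_fibre [Algebra.FinitePresentation B C] [Module.FaithfullyFlat B C] (I : Ideal A) [I.IsPrime] :
    ∃ (_ : Algebra ((AlgebraicClosure I.ResidueField) ⊗[A] B) ((AlgebraicClosure I.ResidueField) ⊗[A] C))
      (_ : IsScalarTower (AlgebraicClosure I.ResidueField) ((AlgebraicClosure I.ResidueField) ⊗[A] B)
        ((AlgebraicClosure I.ResidueField) ⊗[A] C)),
      Module.FaithfullyFlat ((AlgebraicClosure I.ResidueField) ⊗[A] B) ((AlgebraicClosure I.ResidueField) ⊗[A] C) := by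
  let K := AlgebraicClosure I.ResidueField
  let m : K ⊗[A] B →ₐ[K] K ⊗[A] C := Algebra.TensorProduct.map (AlgHom.id K K) (IsScalarTower.toAlgHom A B C)
  let : Algebra (K ⊗[A] B) (K ⊗[A] C) := m.toRingHom.toAlgebra
  have : IsScalarTower K (K ⊗[A] B) (K ⊗[A] C) := .of_algebraMap_eq fun x => (m.commutes x).symm
  refine ⟨inferInstance, inferInstance, ?_⟩
  let : Algebra B (K ⊗[A] C) := ((algebraMap C (K ⊗[A] C)).comp (algebraMap B C)).toAlgebra
  have : IsScalarTower B C (K ⊗[A] C) := .of_algebraMap_eq fun x => rfl
  have : IsScalarTower A B (K ⊗[A] C) := .of_algebraMap_eq fun x => by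
    rw [IsScalarTower.algebraMap_apply A C (K ⊗[A] C), IsScalarTower.algebraMap_apply A B C]
    rfl
  have : IsScalarTower B (K ⊗[A] B) (K ⊗[A] C) := .of_algebraMap_eq fun x => by
    change (1 : K) ⊗ₜ[A] algebraMap B C x = m ((1 : K) ⊗ₜ[A] x)
    simp only [m, Algebra.TensorProduct.map_tmul, AlgHom.id_apply, IsScalarTower.toAlgHom_apply]
  let e : C ⊗[B] (K ⊗[A] B) →ₐ[B] K ⊗[A] C :=
    Algebra.TensorProduct.lift (IsScalarTower.toAlgHom B C (K ⊗[A] C)) (IsScalarTower.toAlgHom B (K ⊗[A] B) (K ⊗[A] C))
      fun _ _ => Commute.all _ _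
  have : IsScalarTower A (K ⊗[A] B) (K ⊗[A] C) := .of_algebraMap_eq fun x => by
    rw [IsScalarTower.algebraMap_apply A K (K ⊗[A] B), ← IsScalarTower.algebraMap_apply K (K ⊗[A] B) (K ⊗[A] C),
      ← IsScalarTower.algebraMap_apply A K]
  have : Algebra.IsPushout A K B (K ⊗[A] B) := inferInstance
  have : Algebra.IsPushout A K C (K ⊗[A] C) := inferInstance
  have : Algebra.IsPushout B (K ⊗[A] B) C (K ⊗[A] C) :=
    ((Algebra.IsPushout.comp_iff A B K (K ⊗[A] B) (T := C) (T' := K ⊗[A] C)).1 (Algebra.IsPushout.symm inferInstance)).symm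
  exact Module.FaithfullyFlat.of_linearEquiv (K ⊗[A] B) ((K ⊗[A] B) ⊗[B] C)
    (Algebra.IsPushout.equiv B (K ⊗[A] B) C (K ⊗[A] C)).toLinearEquiv.symm

/-- smoothness descends along fppf algebras -/
theorem smooth_of_fppf [Algebra.FinitePresentation B C] [Module.FaithfullyFlat B C] [Algebra.Smooth A C] :
    Algebra.Smooth A B := by
  have : Algebra.FinitePresentation A B := finitePresentation_of_fppf (C := C)
  have : Module.Flat A B := GrpdLib.moduleFlat_of_comp A B C
  refine Algebra.Smooth.of_formallySmooth_fiber fun I _ => ?_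
  obtain ⟨_, _, _⟩ := exists_geometric_fibre A B C I
  let K := AlgebraicClosure I.ResidueField
  have : Algebra.Smooth K (K ⊗[A] C) := inferInstance
  have : Algebra.FormallySmooth K (K ⊗[A] B) := smooth_of_algClosed K _ (K ⊗[A] C)
  have : Algebra.FormallySmooth K (K ⊗[I.ResidueField] (I.Fiber B)) :=
    .of_equiv (Algebra.TensorProduct.cancelBaseChange A I.ResidueField K K B).symm
  have : Algebra.Smooth K (K ⊗[I.ResidueField] (I.Fiber B)) := ⟨inferInstance, inferInstance⟩
  exact (Algebra.Smooth.of_smooth_tensorProduct_of_faithfullyFlat (R := I.ResidueField) K).1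

attribute [local instance] Algebra.TensorProduct.rightAlgebra in
theorem formallyUnramified_of_fibres [Algebra.FiniteType A B]
    (h : ∀ (I : Ideal A) [I.IsPrime], Algebra.FormallyUnramified I.ResidueField (I.Fiber B)) :
    Algebra.FormallyUnramified A B := by
  rw [Algebra.formallyUnramified_iff]
  by_contra hns
  rw [← Module.support_eq_empty_iff (R := B), ← ne_eq, ← Set.nonempty_iff_ne_empty] at hns
  obtain ⟨q, hq⟩ := hns
  rw [Module.mem_support_iff_nontrivial_residueField_tensorProduct] at hq
  let p := q.asIdeal.under A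
  let F := p.Fiber B
  let φ : F →ₐ[A] q.asIdeal.ResidueField := Algebra.TensorProduct.lift
    (Ideal.ResidueField.mapₐ p q.asIdeal (Algebra.ofId A B) rfl) (IsScalarTower.toAlgHom A B _) fun _ _ => Commute.all _ _
  let : Algebra F q.asIdeal.ResidueField := φ.toRingHom.toAlgebra
  have : IsScalarTower B F q.asIdeal.ResidueField := .of_algebraMap_eq fun x => by
    change _ = φ ((1 : p.ResidueField) ⊗ₜ[A] x)
    refine Eq.trans ?_ (Algebra.TensorProduct.lift_tmul _ _ _ (1 : p.ResidueField) x).symm
    rw [map_one, one_mul]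
    rfl
  have := h p
  have : Subsingleton (F ⊗[B] Ω[B⁄A]) :=
    (KaehlerDifferential.tensorKaehlerEquiv A p.ResidueField B F).subsingleton
  have : Subsingleton (q.asIdeal.ResidueField ⊗[B] Ω[B⁄A]) :=
    (AlgebraTensorModule.cancelBaseChange B F F q.asIdeal.ResidueField Ω[B⁄A]).symm.subsingleton
  exact false_of_nontrivial_of_subsingleton (q.asIdeal.ResidueField ⊗[B] Ω[B⁄A])

/-- etaleness descends along fppf algebras -/
theorem etale_of_fppf [Algebra.FinitePresentation B C] [Module.FaithfullyFlat B C] [Algebra.Etale A C] :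
    Algebra.Etale A B := by
  have : Algebra.Smooth A B := smooth_of_fppf A B C
  refine Algebra.Etale.iff_formallyUnramified_and_smooth.2 ⟨formallyUnramified_of_fibres A B fun I _ => ?_, ‹_›⟩
  obtain ⟨_, _, _⟩ := exists_geometric_fibre A B C I
  let K := AlgebraicClosure I.ResidueField
  have : Algebra.Etale K (K ⊗[A] C) := inferInstance
  have : Algebra.FormallyUnramified K (K ⊗[A] B) := unramified_of_algClosed K _ (K ⊗[A] C)
  have : Algebra.FormallyUnramified K (K ⊗[I.ResidueField] (I.Fiber B)) :=
    .of_equiv (Algebra.TensorProduct.cancelBaseChange A I.ResidueField K K B).symm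
  exact .of_formallyUnramified_tensorProduct_of_faithfullyFlat (R := I.ResidueField) K

end Groth.Agent.FppfSource
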