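import Groth.Agent.FppfSource.Scheme
import Groth.Agent.AlgSpLib.LocP
import Groth.Agent.AlgSpLib.Points
import Groth.Prelude.Def_AlgSp4

/-!
# Descent along fppf surjective morphisms of algebraic spaces
-/

set_option backward.isDefEq.respectTransparency false

universe u

open CategoryTheory CategoryTheory.Limits AlgebraicGeometry Opposite

namespace Groth.Agent.FppfSource

open _root_.AlgSp Groth.Agent.AlgSpLib

variable {S : Scheme.{u}}

theorem exists_fppf_lift_chart {X Y : Sp S} (hX : IsAlgSpace X) (hY : IsAlgSpace Y) (f : X ⟶ Y)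
    (hs : IsSurjectiveMor f) (hfl : LocP @Flat f) (hfp : LocP @LocallyOfFinitePresentation f)
    {U : Over S} {a : (yon S).obj U ⟶ Y} (ha : RepWith @Etale a) :
    ∃ (U' : Over S) (a' : (yon S).obj U' ⟶ X) (k : U' ⟶ U), RepWith @Etale a' ∧
      a' ≫ f = (yon S).map k ≫ a ∧ Flat k.left ∧ LocallyOfFinitePresentation k.left ∧ Surjective k.left := by
  have sq := IsPullback.of_hasPullback f a
  obtain ⟨U', w, hwe, hws⟩ := (isAlgSpace_of_isPullback_space hY hX (IsAlgSpace.yon_obj U) sq).atlas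
  obtain ⟨k, hk⟩ := exists_map_eq (w ≫ pullback.snd f a)
  have ha' : RepWith @Etale (w ≫ pullback.fst f a) := repWith_comp hwe (repWith_baseChange sq.flip ha)
  have comm : (w ≫ pullback.fst f a) ≫ f = (yon S).map k ≫ a := by
    rw [Category.assoc, sq.w, hk, Category.assoc]
  refine ⟨U', _, k, ha', comm, hfl _ a k ha' ha comm, hfp _ a k ha' ha comm, ⟨fun v => ?_⟩⟩
  obtain ⟨z, hz⟩ := isSurjectiveMor_baseChange sq hs (Points.ofScheme U v)
  obtain ⟨u, rfl⟩ := ofPt_surjective hws z
  refine ⟨u, (Points.schemeEquiv U).injective ?_⟩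
  change Points.ofScheme U (k.left u) = Points.ofScheme U v
  rw [← ofScheme_map, hk, ← Points.map_ofPt, hz]

theorem locP_of_fppf_comp (P : MorphismProperty Scheme.{u})
    (hd : ∀ ⦃A B C : Scheme.{u}⦄ (k : A ⟶ B) (h : B ⟶ C), Flat k → LocallyOfFinitePresentation k →
      Surjective k → P (k ≫ h) → P h)
    {X Y B : Sp S} (hX : IsAlgSpace X) (hY : IsAlgSpace Y) (f : X ⟶ Y) (q : Y ⟶ B) (hs : IsSurjectiveMor f)
    (hfl : LocP @Flat f) (hfp : LocP @LocallyOfFinitePresentation f) (h : LocP P (f ≫ q)) : LocP P q := by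
  intro U V a b m ha hb comm
  obtain ⟨U', a', k, ha', comm', h1, h2, h3⟩ := exists_fppf_lift_chart hX hY f hs hfl hfp ha
  refine hd k.left m.left h1 h2 h3 (h a' b (k ≫ m) ha' hb ?_)
  rw [reassoc_of% comm', comm, Functor.map_comp, Category.assoc]

end Groth.Agent.FppfSource
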