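import Groth.Agent.AlgSpLib.SourceDescRing
import Groth.Agent.FlatSpread.Model

/-!
# Finite type and finite presentation descend along faithfully flat finitely presented algebras
-/

universe u v

open TensorProduct

namespace Groth.Agent.FppfSource

open AlgSpLib.SrcDesc

theorem exists_model_subalgebra (R : Type v) (B C : Type u) [CommRing R] [CommRing B] [CommRing C]
    [Algebra R B] [Algebra B C] [Algebra.FinitePresentation B C] [Module.Flat B C] :
    ∃ (B₀ : Subalgebra R B) (C₀ : Type u) (_ : CommRing C₀) (_ : Algebra B₀ C₀), B₀.FG ∧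
      Algebra.FinitePresentation B₀ C₀ ∧ Module.Flat B₀ C₀ ∧ Nonempty (C ≃ₐ[B] B ⊗[B₀] C₀) := by
  classical
  obtain ⟨R₀, _, _, S₀, _, _, _, _, _, _, hR₀, hS₀, hfl, hpo⟩ := FlatSpread.exists_model_algebra B C
  obtain ⟨s, hs⟩ := hR₀.1
  let B₀ : Subalgebra R B := Algebra.adjoin R (algebraMap R₀ B '' (s : Set R₀))
  have hmem : ∀ x, algebraMap R₀ B x ∈ B₀ := fun x => by
    have hx : x ∈ Algebra.adjoin ℤ (s : Set R₀) := by rw [hs]; trivial
    induction hx using Algebra.adjoin_induction with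
    | mem y hy => exact Algebra.subset_adjoin ⟨y, hy, rfl⟩
    | algebraMap n =>
      rw [algebraMap_int_eq, eq_intCast, map_intCast]
      exact intCast_mem _ n
    | add y z _ _ hy hz => rw [map_add]; exact add_mem hy hz
    | mul y z _ _ hy hz => rw [map_mul]; exact mul_mem hy hz
  let i : R₀ →+* B₀ := (algebraMap R₀ B).codRestrict B₀ hmem
  let : Algebra R₀ B₀ := i.toAlgebra
  have : IsScalarTower R₀ B₀ B := .of_algebraMap_eq fun x => rfl
  have : IsNoetherianRing R₀ := Algebra.FiniteType.isNoetherianRing ℤ R₀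
  have : Algebra.FinitePresentation R₀ S₀ := Algebra.FinitePresentation.of_finiteType.1 hS₀
  refine ⟨B₀, B₀ ⊗[R₀] S₀, inferInstance, inferInstance, ?_, inferInstance, inferInstance, ⟨?_⟩⟩
  · exact ⟨s.image (algebraMap R₀ B), by rw [Finset.coe_image]⟩
  · exact (Algebra.IsPushout.equiv R₀ B S₀ C).symm.trans
      (Algebra.TensorProduct.cancelBaseChange R₀ B₀ B B S₀).symm

theorem exists_descent_flat (R : Type v) (B C : Type u) [CommRing R] [CommRing B] [CommRing C]
    [Algebra R B] [Algebra B C] [Algebra.FinitePresentation B C] [Module.FaithfullyFlat B C] :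
    ∃ (B₀ : Subalgebra R B) (C₀ : Type u) (_ : CommRing C₀) (_ : Algebra B₀ C₀) (w : Finset B),
      B₀.FG ∧ Algebra.FinitePresentation B₀ C₀ ∧ Nonempty (C ≃ₐ[B] B ⊗[B₀] C₀) ∧
        ∀ (B₁ : Subalgebra R B) (hle : B₀ ≤ B₁), (↑w : Set B) ⊆ B₁ →
          letI := (Subalgebra.inclusion hle).toRingHom.toAlgebra
          Module.FaithfullyFlat B₁ (B₁ ⊗[B₀] C₀) := by
  classical
  obtain ⟨B₀, C₀, _, _, hB₀, _, _, ⟨e⟩⟩ := exists_model_subalgebra R B C
  have ho : IsOpen (Set.range (PrimeSpectrum.comap (algebraMap B₀ C₀))) := by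
    rw [← Set.image_univ]
    exact PrimeSpectrum.isOpenMap_comap_of_hasGoingDown_of_finitePresentation _ isOpen_univ
  obtain ⟨K, hK⟩ := (PrimeSpectrum.isClosed_iff_zeroLocus_ideal _).mp ho.isClosed_compl
  have htop : K.map (algebraMap B₀ B) = ⊤ := by
    by_contra h
    obtain ⟨m, hm, hle⟩ := Ideal.exists_le_maximal _ h
    obtain ⟨n, hn⟩ := PrimeSpectrum.comap_surjective_of_faithfullyFlat (A := B) (B := C)
      ⟨m, hm.isPrime⟩
    let ψ : C₀ →+* C := e.symm.toRingHom.comp Algebra.TensorProduct.includeRight.toRingHom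
    have hψ : ψ.comp (algebraMap B₀ C₀) = (algebraMap B C).comp (algebraMap B₀ B) := by
      ext x
      have h := e.symm.commutes (x : B)
      rw [Algebra.TensorProduct.algebraMap_apply, Algebra.algebraMap_self_apply] at h
      simpa [ψ] using h
    have h1 : PrimeSpectrum.comap (algebraMap B₀ B) ⟨m, hm.isPrime⟩ ∈
        Set.range (PrimeSpectrum.comap (algebraMap B₀ C₀)) := ⟨PrimeSpectrum.comap ψ n, by
      rw [← hn, ← PrimeSpectrum.comap_comp_apply, ← PrimeSpectrum.comap_comp_apply, hψ]⟩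
    have h2 : PrimeSpectrum.comap (algebraMap B₀ B) ⟨m, hm.isPrime⟩ ∈
        PrimeSpectrum.zeroLocus (K : Set B₀) := fun x hx => hle (Ideal.mem_map_of_mem _ hx)
    rw [← hK] at h2
    exact h2 h1
  obtain ⟨n, w, z, hz⟩ := Submodule.mem_span_set'.mp
    (show (1 : B) ∈ Submodule.span B (algebraMap B₀ B '' (K : Set B₀)) from
      (Ideal.eq_top_iff_one _).mp htop)
  choose k hk hk' using fun i => (z i).2
  refine ⟨B₀, C₀, inferInstance, inferInstance, Finset.univ.image w, hB₀, inferInstance, ⟨e⟩,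
    fun B₁ hle hsub => ?_⟩
  algebraize [(Subalgebra.inclusion hle).toRingHom]
  refine Module.FaithfullyFlat.of_comap_surjective fun q => comap_mem_range_baseChange q ?_
  by_contra h
  rw [← Set.mem_compl_iff, hK, PrimeSpectrum.mem_zeroLocus] at h
  refine q.isPrime.ne_top ((Ideal.eq_top_iff_one _).mpr ?_)
  have : (1 : B₁) = ∑ i, (⟨w i, hsub (by simp)⟩ : B₁) * algebraMap B₀ B₁ (k i) := by
    apply Subtype.ext
    simp only [AddSubmonoidClass.coe_finsetSum, MulMemClass.coe_mul, OneMemClass.coe_one]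
    rw [← hz]
    refine Finset.sum_congr rfl fun i _ => ?_
    rw [← hk' i]
    rfl
  rw [this]
  exact Ideal.sum_mem _ fun i _ => Ideal.mul_mem_left _ _ (h (hk i))

variable {A B C : Type u} [CommRing A] [CommRing B] [CommRing C] [Algebra A B] [Algebra B C]
  [Algebra A C] [IsScalarTower A B C]

/-- finite type descends along fppf algebras -/
theorem finiteType_of_fppf [Algebra.FinitePresentation B C] [Module.FaithfullyFlat B C]
    [Algebra.FiniteType A C] : Algebra.FiniteType A B := by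
  classical
  obtain ⟨B₀, C₀, _, _, w, hB₀, _, ⟨e⟩, hff⟩ := exists_descent_flat A B C
  obtain ⟨s, hs⟩ := Algebra.FiniteType.out (R := A) (A := C)
  choose k b c hbc using fun x : C => TensorProduct.exists_sum_tmul_eq (e x)
  let t : Finset B := w ∪ s.biUnion fun x => Finset.univ.image (b x)
  let B₁ : Subalgebra A B := B₀ ⊔ Algebra.adjoin A ↑t
  have hle : B₀ ≤ B₁ := le_sup_left
  have hsub : (↑t : Set B) ⊆ B₁ := fun x hx =>
    (le_sup_right : _ ≤ B₁) (Algebra.subset_adjoin hx)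
  algebraize [(Subalgebra.inclusion hle).toRingHom]
  have : IsScalarTower B₀ B₁ B := .of_algebraMap_eq fun x => rfl
  have : Module.FaithfullyFlat B₁ (B₁ ⊗[B₀] C₀) :=
    hff B₁ hle fun x hx => hsub (Finset.mem_union_left _ hx)
  let e' : C ≃ₐ[B] B ⊗[B₁] (B₁ ⊗[B₀] C₀) :=
    e.trans (Algebra.TensorProduct.cancelBaseChange B₀ B₁ B B C₀).symm
  let φ : B₁ ⊗[B₀] C₀ →ₐ[B₁] B ⊗[B₁] (B₁ ⊗[B₀] C₀) := Algebra.TensorProduct.includeRight
  set_option synthInstance.maxHeartbeats 400000 in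
  have key : ∀ x : C, e' x ∈ φ.range := fun x => by
    have hx : x ∈ Algebra.adjoin A (↑s : Set C) := by rw [hs]; trivial
    induction hx using Algebra.adjoin_induction with
    | mem x hx =>
      refine ⟨∑ i, (⟨b x i, hsub (Finset.mem_union_right _ (Finset.mem_biUnion.mpr
        ⟨x, hx, Finset.mem_image_of_mem _ (Finset.mem_univ i)⟩))⟩ : B₁) ⊗ₜ[B₀] c x i, ?_⟩
      simp only [e', AlgEquiv.trans_apply, hbc, map_sum]
      refine Finset.sum_congr rfl fun i _ => ?_
      rw [AlgEquiv.eq_symm_apply]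
      refine (Algebra.TensorProduct.cancelBaseChange_tmul B₀ B₁ B B C₀ _ _ _).trans ?_
      show ((⟨b x i, hsub (Finset.mem_union_right _ (Finset.mem_biUnion.mpr
        ⟨x, hx, Finset.mem_image_of_mem _ (Finset.mem_univ i)⟩))⟩ : B₁) • (1 : B)) ⊗ₜ[B₀] c x i = _
      rw [Algebra.smul_def, mul_one]
      rfl
    | algebraMap a =>
      rw [IsScalarTower.algebraMap_apply A B C, AlgEquiv.commutes]
      exact (φ.range).algebraMap_mem (⟨algebraMap A B a, B₁.algebraMap_mem a⟩ : B₁)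
    | add x y _ _ hx hy => rw [map_add]; exact add_mem hx hy
    | mul x y _ _ hx hy => rw [map_mul]; exact mul_mem hx hy
  have hφ : Function.Surjective φ := fun y => by simpa using key (e'.symm y)
  have hsurj : Function.Surjective (Algebra.linearMap B₁ B) := by
    rw [← Module.FaithfullyFlat.lTensor_surjective_iff_surjective B₁ (B₁ ⊗[B₀] C₀)]
    intro y
    obtain ⟨x, hx⟩ := hφ (TensorProduct.comm B₁ _ _ y)
    refine ⟨x ⊗ₜ 1, (TensorProduct.comm B₁ _ _).injective ?_⟩
    rw [← hx]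
    simp [φ]
    rfl
  have htop : B₁ = ⊤ := eq_top_iff.mpr fun x _ => by
    obtain ⟨y, rfl⟩ := hsurj x
    exact y.2
  exact ⟨htop ▸ hB₀.sup (Subalgebra.fg_adjoin_finset t)⟩

/-- finite presentation descends along fppf algebras -/
theorem finitePresentation_of_fppf [Algebra.FinitePresentation B C] [Module.FaithfullyFlat B C]
    [Algebra.FinitePresentation A C] : Algebra.FinitePresentation A B := by
  classical
  have : Algebra.FiniteType A B := finiteType_of_fppf (C := C)
  obtain ⟨n, π, hπ⟩ := Algebra.FiniteType.iff_quotient_mvPolynomial''.mp ‹Algebra.FiniteType A B›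
  obtain ⟨B₀', C₀, _, _, w, hB₀', _, ⟨e⟩, hff⟩ := exists_descent_flat ℤ B C
  let B₁ : Subalgebra ℤ B := B₀' ⊔ Algebra.adjoin ℤ ↑w
  have hle : B₀' ≤ B₁ := le_sup_left
  algebraize [(Subalgebra.inclusion hle).toRingHom]
  have : IsScalarTower B₀' B₁ B := .of_algebraMap_eq fun x => rfl
  have : Module.FaithfullyFlat B₁ (B₁ ⊗[B₀'] C₀) :=
    hff B₁ hle fun x hx => (le_sup_right : _ ≤ B₁) (Algebra.subset_adjoin hx)
  let C₁ := B₁ ⊗[B₀'] C₀
  have : Algebra.FiniteType ℤ B₁ :=
    (Subalgebra.fg_iff_finiteType B₁).mp (hB₀'.sup (Subalgebra.fg_adjoin_finset _))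
  have : IsNoetherianRing B₁ := Algebra.FiniteType.isNoetherianRing ℤ B₁
  -- lift the generators of `B₁`
  obtain ⟨m, ρ, hρ⟩ := Algebra.FiniteType.iff_quotient_mvPolynomial''.mp ‹Algebra.FiniteType ℤ B₁›
  choose g hg using fun i : Fin m => hπ (ρ (MvPolynomial.X i) : B)
  let ψ : MvPolynomial (Fin m) ℤ →+* MvPolynomial (Fin n) A := (MvPolynomial.aeval g).toRingHom
  have hψ : π.toRingHom.comp ψ = (algebraMap B₁ B).comp ρ.toRingHom :=
    MvPolynomial.ringHom_ext (fun r => by simp [ψ]) (fun i => by simp [ψ, hg])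
  let I₁ : Ideal (MvPolynomial (Fin n) A) := (RingHom.ker ρ.toRingHom).map ψ
  have hI₁ : I₁.FG := Ideal.FG.map (IsNoetherian.noetherian _) ψ
  let P₁ := MvPolynomial (Fin n) A ⧸ I₁
  have : Algebra.FinitePresentation A P₁ := .quotient hI₁
  let σ : B₁ →+* P₁ := RingHom.liftOfSurjective ρ.toRingHom hρ
    ⟨(Ideal.Quotient.mk I₁).comp ψ, fun x hx =>
      Ideal.Quotient.eq_zero_iff_mem.mpr (Ideal.mem_map_of_mem ψ hx)⟩
  have hσ : ∀ x, σ (ρ x) = Ideal.Quotient.mk I₁ (ψ x) := fun x =>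
    RingHom.liftOfRightInverse_comp_apply _ _ _ _ x
  have hle₁ : I₁ ≤ RingHom.ker π.toRingHom := Ideal.map_le_iff_le_comap.mpr fun x hx => by
    rw [Ideal.mem_comap, RingHom.mem_ker, ← RingHom.comp_apply, hψ, RingHom.comp_apply,
      RingHom.mem_ker.mp hx, map_zero]
  let π₁ : P₁ →ₐ[A] B := Ideal.Quotient.liftₐ I₁ π fun x hx => hle₁ hx
  have hπ₁ : Function.Surjective π₁ := fun y => by
    obtain ⟨x, rfl⟩ := hπ y
    exact ⟨Ideal.Quotient.mk I₁ x, rfl⟩
  let : Algebra B₁ P₁ := σ.toAlgebra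
  let : Algebra P₁ B := π₁.toRingHom.toAlgebra
  have : IsScalarTower A P₁ B := .of_algebraMap_eq fun x => (π₁.commutes x).symm
  have : IsScalarTower B₁ P₁ B := .of_algebraMap_eq fun x => by
    obtain ⟨x, rfl⟩ := hρ x
    show _ = π₁ (σ (ρ x))
    rw [hσ]
    exact congr($hψ x).symm
  have : Algebra.FinitePresentation B₁ C₁ := inferInstanceAs (Algebra.FinitePresentation B₁ (B₁ ⊗[B₀'] C₀))
  exact finitePresentation_of_cover (P₁ := P₁) (C₂ := P₁ ⊗[B₁] C₁) hπ₁ ((e.trans
    (Algebra.TensorProduct.cancelBaseChange B₀' B₁ B B C₀).symm).trans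
    (Algebra.TensorProduct.cancelBaseChange B₁ P₁ B B C₁).symm)

end Groth.Agent.FppfSource
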